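import Groth.Agent.Lib.SlopeDual17.HomDeg
import Groth.Agent.Lib.Ample18.Avoid
import Groth.Agent.Lib.TensorMod.Dual
import Groth.Agent.Lib.TensorMod.PullTensor
import Groth.Agent.Lib.TensorMod.IdealMod
import Groth.Agent.Lib.Twist.Pullback
import Groth.Prelude.Def_Omega2
import Groth.Prelude.Def_BlowUp2

/-!
# The sheaf dual of an invertible module is its inverse; it commutes with pullback
-/

set_option autoImplicit false
set_option linter.style.haveILetI false
set_option backward.isDefEq.respectTransparency.types false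
universe u

open CategoryTheory CategoryTheory.Limits AlgebraicGeometry TopologicalSpace Opposite
open scoped TensorProduct

noncomputable section

namespace Groth.Agent.NormalEC5

open Groth.Agent.M2

variable {X : Scheme.{u}} {M : X.Modules}

/-- The value of a form on a section. -/
def pairSec (U : X.Opens) (θ : Γ(RefHull.dual M, U)) (s : Γ(M, U)) : Γ(Coh.structureModule X, U) :=
  (RH26.exists_app (le_refl U) θ s).choose

theorem germ_pairSec {U : X.Opens} (θ : Γ(RefHull.dual M, U)) (s : Γ(M, U)) (y : X) (hy : y ∈ U) :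
    (Coh.structureModule X).presheaf.germ U y hy (pairSec U θ s) = θ.1 ⟨y, hy⟩ (M.presheaf.germ U y hy s) :=
  (RH26.exists_app (le_refl U) θ s).choose_spec.1 y hy

theorem pairSec_eq {U : X.Opens} (θ : Γ(RefHull.dual M, U)) (s : Γ(M, U)) (n : Γ(Coh.structureModule X, U))
    (h : ∀ (y : X) (hy : y ∈ U), (Coh.structureModule X).presheaf.germ U y hy n =
      θ.1 ⟨y, hy⟩ (M.presheaf.germ U y hy s)) : pairSec U θ s = n :=
  ((RH26.exists_app (le_refl U) θ s).choose_spec.2 n h).symm

/-- The pairing of a module with its sheaf of forms. -/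
def pairBi (M : X.Modules) : BiMap (RefHull.dual M) M (Coh.structureModule X) where
  f U θ s := pairSec U θ s
  add_left U θ θ' s := pairSec_eq _ _ _ fun y hy => by
    rw [map_add, germ_pairSec, germ_pairSec]; rfl
  smul_left U r θ s := pairSec_eq _ _ _ fun y hy => by
    rw [M1.germ_smul, germ_pairSec]; rfl
  add_right U θ s s' := pairSec_eq _ _ _ fun y hy => by
    rw [map_add, map_add, map_add, germ_pairSec, germ_pairSec]
  smul_right U r θ s := pairSec_eq _ _ _ fun y hy => by
    rw [M1.germ_smul, M1.germ_smul, map_smul, germ_pairSec]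
  compat {U V} h θ s := pairSec_eq _ _ _ fun y hy => by
    refine (M1.germ_mres _ h hy _).trans ?_
    rw [germ_pairSec]
    exact congrArg (θ.1 ⟨y, h hy⟩) (M1.germ_mres M h hy s).symm

theorem bijective_stalk (hM : PicF.IsInvertible M) (x : X) :
    Function.Bijective ((M1.stalkAb x).map (mkHom (pairBi M))) := by
  obtain ⟨g, hg⟩ := Amp.exists_stalk_gen hM x
  let T := fun d : ((RefHull.dual M).presheaf.stalk x : Type u) =>
    (stalkEquiv (RefHull.dual M) M x).symm (d ⊗ₜ g)
  have hT : Function.Surjective T := by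
    intro t
    obtain ⟨t, rfl⟩ := (stalkEquiv (RefHull.dual M) M x).symm.surjective t
    suffices h : ∃ d, t = d ⊗ₜ g by
      obtain ⟨d, rfl⟩ := h; exact ⟨d, rfl⟩
    induction t using TensorProduct.induction_on with
    | zero => exact ⟨0, (TensorProduct.zero_tmul _ _).symm⟩
    | tmul d b =>
      obtain ⟨c, rfl⟩ := hg.2 b
      exact ⟨c • d, (TensorProduct.smul_tmul c d _).symm⟩
    | add a b ha hb =>
      obtain ⟨d, rfl⟩ := ha
      obtain ⟨d', rfl⟩ := hb
      exact ⟨d + d', (TensorProduct.add_tmul _ _ _).symm⟩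
  have key : ∀ d, (M1.stalkAb x).map (mkHom (pairBi M)) (T d) =
      RefHull.evalStalk M (Coh.structureModule X) x d g := by
    intro d
    obtain ⟨U, hx, θ, s, rfl, rfl⟩ := CurveCoh17.exists_germ_germ x d g
    simp only [T]
    rw [(LinearEquiv.symm_apply_eq _).2 (stalkEquiv_tsec (RefHull.dual M) M x hx θ s).symm]
    refine (TopCat.Presheaf.stalkFunctor_map_germ_apply U x hx
      ((Scheme.Modules.toPresheaf X).map (mkHom (pairBi M))) _).trans ?_
    rw [RefHull.evalStalk_germ]
    refine (congrArg _ (mkHom_tsec (pairBi M) θ s)).trans ?_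
    exact germ_pairSec θ s x hx
  have hev := RH26.evalStalk_bijective (M1.isFP_of_isFinLocFree (M2.isFinLocFree_of_isInvertible hM))
    (Coh.structureModule X) x
  refine ⟨fun a b hab => ?_, fun t => ?_⟩
  · obtain ⟨a, rfl⟩ := hT a
    obtain ⟨b, rfl⟩ := hT b
    rw [key, key] at hab
    refine congrArg T (hev.1 (LinearMap.ext fun v => ?_))
    obtain ⟨c, rfl⟩ := hg.2 v
    show RefHull.evalStalk M _ x a (c • g) = RefHull.evalStalk M _ x b (c • g)
    rw [map_smul, map_smul, hab]
  · let t' : ((Coh.structureModule X).presheaf.stalk x : Type u) := t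
    let e : X.presheaf.stalk x ≃ₗ[X.presheaf.stalk x] (M.presheaf.stalk x : Type u) :=
      LinearEquiv.ofBijective (LinearMap.toSpanSingleton _ _ g) hg
    obtain ⟨d, hd⟩ := hev.2 ((LinearMap.toSpanSingleton (X.presheaf.stalk x) _ t').comp e.symm.toLinearMap)
    refine ⟨T d, ?_⟩
    rw [key, hd]
    show e.symm g • t' = t'
    rw [show e.symm g = 1 from e.symm_apply_eq.2 (show g = (1 : X.presheaf.stalk x) • g from (one_smul _ g).symm), one_smul]

/-- `M^* ⊗ M ≅ O` for invertible `M`. -/
def dualPairIso (hM : PicF.IsInvertible M) :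
    CohB1.tensorMod (RefHull.dual M) M ≅ Coh.structureModule X :=
  @asIso _ _ _ _ (mkHom (pairBi M)) ((M1.isIso_iff_stalk _).mpr (bijective_stalk hM))

/-- The sheaf of forms of an invertible module commutes with pullback. -/
theorem nonempty_dual_pullback_iso {Y : Scheme.{u}} (f : Y ⟶ X) (hM : PicF.IsInvertible M) :
    Nonempty (RefHull.dual ((Scheme.Modules.pullback f).obj M) ≅
      (Scheme.Modules.pullback f).obj (RefHull.dual M)) := by
  let L := (Scheme.Modules.pullback f).obj M
  have hL : PicF.IsInvertible L := Twist.isInvertible_pullback f hM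
  exact ⟨M2.inverseUnique (M := L) (M2.tensorComm L (RefHull.dual L) ≪≫ dualPairIso hL)
    (M2.tensorComm L _ ≪≫ (M2.pullTensorIso f (RefHull.dual M) M).symm ≪≫
      (Scheme.Modules.pullback f).mapIso (dualPairIso hM) ≪≫ Twist.pullbackUnitIso f)⟩

/-- The normal sheaf of an effective Cartier divisor. -/
theorem nonempty_normal_iso {S : Scheme.{u}} (D : S.IdealSheafData) (hD : BlowUp.IsEffCartierIdeal D) :
    Nonempty (RefHull.dual (Omega.conormal D.subschemeι) ≅
      (Scheme.Modules.pullback D.subschemeι).obj (RefHull.dual (ClSub.idealMod D))) := by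
  rw [Omega.conormal, Scheme.IdealSheafData.ker_subschemeι]
  exact nonempty_dual_pullback_iso _ (M2.isInvertible_idealMod D hD)

end Groth.Agent.NormalEC5
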